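import Groth.Agent.LocH.AdjDepthChange
import Groth.Agent.LocH.NonVanishing
import Mathlib.RingTheory.Ideal.KrullsHeightTheorem
import Mathlib.RingTheory.Ideal.GoingUp
import Mathlib.RingTheory.KrullDimension.Regular

/-!
# Depth for a finite going down extension with a retraction
-/

noncomputable section

universe u v

namespace Groth.Agent.InvFin

open LocalizedModule

/-- A retract has at least the depth of the module. -/
theorem idealDepth_le_of_retract {A : Type u} [CommRing A] {M N : Type u} [AddCommGroup M] [Module A M]
    [AddCommGroup N] [Module A N] (i : N →ₗ[A] M) (q : M →ₗ[A] N) (h : q ∘ₗ i = LinearMap.id)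
    (I : Ideal A) : LocCoh.idealDepth I M ≤ LocCoh.idealDepth I N := by
  by_cases hN : I • (⊤ : Submodule A N) = ⊤
  · rw [LocCoh.idealDepth, LocCoh.idealDepth, if_pos hN]; exact le_top
  have hM : I • (⊤ : Submodule A M) ≠ ⊤ := fun hM => hN <| by
    have h1 := congrArg (Submodule.map q) hM
    have hq : LinearMap.range q = ⊤ := LinearMap.range_eq_top.2 fun n => ⟨i n, LinearMap.congr_fun h n⟩
    rwa [Submodule.map_smul'', Submodule.map_top, hq] at h1
  rw [LocCoh.idealDepth, LocCoh.idealDepth, if_neg hM, if_neg hN]
  refine iSup₂_le fun rs hrs => le_iSup₂_of_le rs ⟨⟨fun j hj => ?_⟩, hrs.2⟩ le_rfl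
  refine isSMulRegular_iff_right_eq_zero_of_smul.2 fun y hy => ?_
  obtain ⟨n, rfl⟩ := Submodule.Quotient.mk_surjective _ y
  rw [← Submodule.Quotient.mk_smul, Submodule.Quotient.mk_eq_zero] at hy
  rw [Submodule.Quotient.mk_eq_zero]
  have hi : ∀ (J : Ideal A) (z : N), z ∈ J • (⊤ : Submodule A N) → i z ∈ J • (⊤ : Submodule A M) :=
    fun J z hz => by
      have h1 := Submodule.mem_map_of_mem (f := i) hz
      rw [Submodule.map_smul''] at h1
      exact Submodule.smul_mono le_rfl le_top h1
  have h2 := isSMulRegular_iff_right_eq_zero_of_smul.1 (hrs.1.1 j hj) (Submodule.Quotient.mk (i n)) (by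
    rw [← Submodule.Quotient.mk_smul, Submodule.Quotient.mk_eq_zero, ← map_smul]
    exact hi _ _ hy)
  rw [Submodule.Quotient.mk_eq_zero] at h2
  have h3 := Submodule.mem_map_of_mem (f := q) h2
  rw [Submodule.map_smul'', show q (i n) = n from LinearMap.congr_fun h n] at h3
  exact Submodule.smul_mono le_rfl le_top h3

/-- The depth of a nonzero finite module is at most the dimension of its support. -/
theorem depth_le_supportDim {A : Type u} [CommRing A] [IsLocalRing A] [IsNoetherianRing A]
    (M : Type u) [AddCommGroup M] [Module A M] [Module.Finite A M] {n : ℕ}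
    (hn : Module.supportDim A M = n) : LocCoh.depth A M ≤ n := by
  refine ENat.forall_natCast_le_iff_le.1 fun j hj => ?_
  rw [Nat.cast_le]
  by_contra hlt
  exact not_subsingleton_iff_nontrivial.2 (LocH.nontrivial_at_supportDim M n hn)
    ((LocH.le_idealDepth_iff _ M j).1 hj n (by lia))

variable {A : Type u} [CommRing A] [IsNoetherianRing A] {R : Type u} [CommRing R] [Algebra A R]
variable [Module.Finite A R]

theorem height_eq [Algebra.HasGoingDown A R] (p : Ideal A) [p.IsPrime] (q : Ideal R) [q.IsPrime]
    (hq : q.comap (algebraMap A R) = p) : q.height = p.height := by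
  have : IsNoetherianRing R := IsNoetherianRing.of_finite A R
  have : q.LiesOver p := ⟨hq.symm⟩
  rw [Ideal.height_eq_height_add_of_liesOver_of_hasGoingDown p q]
  have hle : p.map (algebraMap A R) ≤ q := Ideal.map_le_iff_le_comap.2 hq.ge
  have hprime : (q.map (Ideal.Quotient.mk (p.map (algebraMap A R)))).IsPrime :=
    Ideal.map_isPrime_of_surjective Ideal.Quotient.mk_surjective (by rwa [Ideal.mk_ker])
  suffices h : (q.map (Ideal.Quotient.mk (p.map (algebraMap A R)))).height = 0 by rw [h, add_zero]
  rw [Ideal.height_eq_zero_iff]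
  refine ⟨⟨hprime, bot_le⟩, fun Q' hQ' hQ'le => ?_⟩
  have := hQ'.1
  have h1 : Q'.comap (Ideal.Quotient.mk (p.map (algebraMap A R))) ≤ q :=
    (Ideal.comap_mono hQ'le).trans (by
      rw [Ideal.comap_map_of_surjective _ Ideal.Quotient.mk_surjective, ← RingHom.ker_eq_comap_bot,
        Ideal.mk_ker, sup_eq_left.2 hle])
  have h2 : p.map (algebraMap A R) ≤ Q'.comap (Ideal.Quotient.mk (p.map (algebraMap A R))) := fun x hx => by
    rw [Ideal.mem_comap, Ideal.Quotient.eq_zero_iff_mem.2 hx]
    exact Q'.zero_mem
  rcases h1.eq_or_lt with he | hlt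
  · exact Ideal.map_le_iff_le_comap.2 he.ge
  · exact absurd ((Ideal.IsIntegral.comap_lt_comap (R := A) hlt).trans_le
      (hq.le.trans (Ideal.map_le_iff_le_comap.1 h2))) (lt_irrefl _)

variable (π : R →ₗ[A] A) (hπ : π 1 = 1)

/-- The unit as a map on localized modules. -/
abbrev locUnit (p : Ideal A) [p.IsPrime] :
    LocalizedModule p.primeCompl A →ₗ[Localization.AtPrime p] LocalizedModule p.primeCompl R :=
  LocalizedModule.map p.primeCompl (Algebra.linearMap A R)

/-- The retraction on localized modules. -/
abbrev locRetr (p : Ideal A) [p.IsPrime] :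
    LocalizedModule p.primeCompl R →ₗ[Localization.AtPrime p] LocalizedModule p.primeCompl A :=
  LocalizedModule.map p.primeCompl π

include hπ in
theorem locRetr_comp_locUnit (p : Ideal A) [p.IsPrime] : locRetr π p ∘ₗ locUnit p = LinearMap.id := by
  refine LinearMap.ext fun z => ?_
  induction z using LocalizedModule.induction_on with
  | h a s =>
    simp only [LinearMap.comp_apply, LinearMap.id_apply, locUnit, locRetr, LocalizedModule.map_mk]
    congr 1
    rw [Algebra.linearMap_apply, Algebra.algebraMap_eq_smul_one, map_smul, hπ, smul_eq_mul, mul_one]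

/-- The ring localized at a prime, as a localized module of itself. -/
def selfEquiv {B : Type u} [CommRing B] (q : Ideal B) [q.IsPrime] :
    Localization.AtPrime q ≃ₗ[Localization.AtPrime q] LocalizedModule q.primeCompl B :=
  LinearEquiv.extendScalarsOfIsLocalization q.primeCompl (Localization.AtPrime q)
    (IsLocalizedModule.linearEquiv q.primeCompl (Algebra.linearMap B (Localization.AtPrime q))
      (LocalizedModule.mkLinearMap q.primeCompl B))

theorem supportDim_self {B : Type u} [CommRing B] (q : Ideal B) [q.IsPrime] :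
    Module.supportDim (Localization.AtPrime q) (LocalizedModule q.primeCompl B) =
      (q.height : WithBot ℕ∞) := by
  rw [← Module.supportDim_eq_of_equiv (selfEquiv q), Module.supportDim_self_eq_ringKrullDim,
    IsLocalization.AtPrime.ringKrullDim_eq_height q (Localization.AtPrime q)]

theorem depth_self {B : Type u} [CommRing B] (q : Ideal B) [q.IsPrime] :
    LocCoh.depth (Localization.AtPrime q) (Localization.AtPrime q) =
      LocCoh.depth (Localization.AtPrime q) (LocalizedModule q.primeCompl B) :=
  LocH.idealDepth_congr (selfEquiv q) _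

include π hπ in
theorem supportDim_localized (p : Ideal A) [p.IsPrime] :
    Module.supportDim (Localization.AtPrime p) (LocalizedModule p.primeCompl R) =
      (p.height : WithBot ℕ∞) := by
  refine le_antisymm ?_ ?_
  · exact (Module.supportDim_le_ringKrullDim _ _).trans_eq
      (IsLocalization.AtPrime.ringKrullDim_eq_height p (Localization.AtPrime p))
  · rw [← supportDim_self p]
    exact Module.supportDim_le_of_injective (locUnit p)
      (Function.LeftInverse.injective (g := locRetr π p)
        fun x => LinearMap.congr_fun (locRetr_comp_locUnit π hπ p) x)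

theorem le_depth_localized (p : Ideal A) [p.IsPrime] (n : ℕ)
    (h : ∀ (q : Ideal R) [q.IsPrime], q.comap (algebraMap A R) = p →
      (n : ℕ∞) ≤ LocCoh.depth (Localization.AtPrime q) (LocalizedModule q.primeCompl R)) :
    (n : ℕ∞) ≤ LocCoh.depth (Localization.AtPrime p) (LocalizedModule p.primeCompl R) := by
  have : IsNoetherianRing R := IsNoetherianRing.of_finite A R
  let M := Algebra.algebraMapSubmonoid R p.primeCompl
  let B := Localization M
  let Ap := Localization.AtPrime p
  letI : Algebra Ap B := localizationAlgebra p.primeCompl R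
  haveI : IsScalarTower A Ap B := IsScalarTower.of_algebraMap_eq' (by
    ext a
    simp only [RingHom.comp_apply]
    rw [RingHom.algebraMap_toAlgebra, IsLocalization.map_eq]
    exact IsScalarTower.algebraMap_apply A R B a)
  haveI : IsNoetherianRing B := IsLocalization.isNoetherianRing M B inferInstance
  let f : R →ₗ[A] B := (IsScalarTower.toAlgHom A R B).toLinearMap
  haveI : IsLocalizedModule p.primeCompl f := isLocalizedModule_iff_isLocalization.2 inferInstance
  haveI : Module.Finite Ap B := Module.Finite.of_isLocalizedModule p.primeCompl f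
  let e : LocalizedModule p.primeCompl R ≃ₗ[Ap] B :=
    (IsLocalizedModule.linearEquiv p.primeCompl (LocalizedModule.mkLinearMap p.primeCompl R) f).extendScalarsOfIsLocalization
      p.primeCompl Ap
  unfold LocCoh.depth
  rw [LocH.idealDepth_congr e, LocH.idealDepth_map_eq (R' := B) _ B, LocH.idealDepth_eq_iInf,
    le_iInf₂_iff]
  intro P hP
  let q : Ideal R := P.asIdeal.comap (algebraMap R B)
  have hq : q.comap (algebraMap A R) = p := by
    refine le_antisymm (fun a ha => ?_) (fun a ha => ?_)
    · by_contra hap
      exact P.isPrime.ne_top (P.asIdeal.eq_top_of_isUnit_mem ha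
        (IsLocalization.map_units B (⟨algebraMap A R a, a, hap, rfl⟩ : M)))
    · have h1 := hP (Ideal.mem_map_of_mem (algebraMap Ap B)
        ((IsLocalization.AtPrime.to_map_mem_maximal_iff Ap p a).2 ha))
      rw [← IsScalarTower.algebraMap_apply, IsScalarTower.algebraMap_apply A R B] at h1
      exact h1
  let g : R →ₗ[R] LocalizedModule P.asIdeal.primeCompl B :=
    ((LocalizedModule.mkLinearMap P.asIdeal.primeCompl B).restrictScalars R).comp
      (Algebra.linearMap R B)
  have hloc : IsLocalizedModule q.primeCompl g := by
    rw [isLocalizedModule_iff_isBaseChange q.primeCompl (Localization.AtPrime P.asIdeal)]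
    refine IsBaseChange.comp (S := B) ?_ ?_
    · rw [← isLocalizedModule_iff_isBaseChange M]
      infer_instance
    · rw [← isLocalizedModule_iff_isBaseChange P.asIdeal.primeCompl]
      infer_instance
  exact le_of_le_of_eq (h q hq) (LocH.depth_eq_of_isLocalizedModule R q (Localization.AtPrime P.asIdeal)
    (fun x => IsLocalization.map_units _ x)
    (fun a => let ⟨⟨r, s⟩, hrs⟩ := IsLocalization.surj q.primeCompl a; ⟨r, s, hrs⟩)
    _ g).symm

variable [Algebra.HasGoingDown A R]

include π hπ in
theorem hasSk_pair (r : ℕ) (hR : LocCoh.HasSk r R R) : LocCoh.HasSk r A R ∧ LocCoh.HasSk r A A := by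
  have key : ∀ (p : Ideal A) [p.IsPrime], min (r : WithBot ℕ∞) (p.height : WithBot ℕ∞) ≤
      (LocCoh.depth (Localization.AtPrime p) (LocalizedModule p.primeCompl R) : WithBot ℕ∞) := by
    intro p _
    rw [← WithBot.coe_natCast, ← WithBot.coe_min, WithBot.coe_le_coe]
    refine ENat.forall_natCast_le_iff_le.1 fun n hn => le_depth_localized p n fun q _ hq => ?_
    have h1 := hR q
    rw [supportDim_self, height_eq p q hq, ← WithBot.coe_natCast, ← WithBot.coe_min,
      WithBot.coe_le_coe] at h1
    exact hn.trans h1
  refine ⟨fun p _ => ?_, fun p _ => ?_⟩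
  · rw [supportDim_localized π hπ p]
    exact key p
  · rw [supportDim_self]
    exact (key p).trans (WithBot.coe_le_coe.2
      (idealDepth_le_of_retract (locUnit p) (locRetr π p) (locRetr_comp_locUnit π hπ p) _))

include π hπ in
theorem cohenMacaulay_pair (hR : LocCoh.IsCohenMacaulayRing R) :
    LocCoh.IsCohenMacaulayRing A ∧ ∀ (p : Ideal A) [p.IsPrime],
      LocCoh.IsCohenMacaulayModule (Localization.AtPrime p) (LocalizedModule p.primeCompl R) ∧
        Module.supportDim (Localization.AtPrime p) (LocalizedModule p.primeCompl R) =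
          ringKrullDim (Localization.AtPrime p) := by
  have hSk : ∀ r : ℕ, LocCoh.HasSk r R R := fun r q _ => by
    have h1 := (hR.isCohenMacaulayLocalRing_localization q).supportDim_eq_depth
    rw [Module.supportDim_eq_of_equiv (selfEquiv q), depth_self] at h1
    exact (min_le_right _ _).trans h1.le
  have main : ∀ (p : Ideal A) [p.IsPrime],
      LocCoh.depth (Localization.AtPrime p) (LocalizedModule p.primeCompl R) = p.height ∧
      LocCoh.depth (Localization.AtPrime p) (LocalizedModule p.primeCompl A) = p.height := by
    intro p _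
    obtain ⟨t, ht⟩ := ENat.ne_top_iff_exists.1 (Ideal.height_ne_top (I := p) Ideal.IsPrime.ne_top')
    have : Module.Finite (Localization.AtPrime p) (LocalizedModule p.primeCompl A) :=
      Module.Finite.equiv (selfEquiv p)
    obtain ⟨h1, h2⟩ := hasSk_pair π hπ t (hSk t)
    have h1' := h1 p
    have h2' := h2 p
    have e1 := supportDim_localized π hπ p
    have e2 := supportDim_self p
    rw [← ht] at e1 e2 ⊢
    rw [e1, WithBot.coe_natCast, min_self] at h1'
    rw [e2, WithBot.coe_natCast, min_self] at h2'
    exact ⟨le_antisymm (depth_le_supportDim _ e1) (WithBot.coe_le_coe.1 h1'),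
      le_antisymm (depth_le_supportDim _ e2) (WithBot.coe_le_coe.1 h2')⟩
  refine ⟨{ isCohenMacaulayLocalRing_localization := fun p _ => ⟨?_⟩ }, fun p _ => ⟨?_, ?_⟩⟩
  · rw [Module.supportDim_self_eq_ringKrullDim, depth_self, (main p).2,
      IsLocalization.AtPrime.ringKrullDim_eq_height p (Localization.AtPrime p)]
  · rw [LocCoh.IsCohenMacaulayModule, supportDim_localized π hπ p, (main p).1]
  · rw [supportDim_localized π hπ p,
      IsLocalization.AtPrime.ringKrullDim_eq_height p (Localization.AtPrime p)]

end Groth.Agent.InvFin
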