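import Groth.Agent.InvFin.Coact
import Mathlib.LinearAlgebra.Charpoly.ToMatrix
import Mathlib.LinearAlgebra.Matrix.Charpoly.Coeff
import Mathlib.RingTheory.Ideal.GoingUp
import Mathlib.RingTheory.Ideal.GoingDown
import Mathlib.RingTheory.IntegralClosure.IsIntegralClosure.Basic

/-!
# Norms along an action of a finite group scheme: integrality and going down over the invariants
-/

noncomputable section

open TensorProduct Polynomial

universe u v w w'

namespace Groth.Agent.InvFin

section Matrices

variable {k : Type u} [CommRing k] {H : Type v} [CommRing H] [Algebra k H]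
variable {ι : Type*} [Fintype ι] [DecidableEq ι] (b : Module.Basis ι k H)
variable {T : Type w} [CommRing T] [Algebra k T] {T' : Type w'} [CommRing T'] [Algebra k T']

/-- Left multiplication matrices on `T ⊗ H`. -/
abbrev mulMat (t : T ⊗[k] H) : Matrix ι ι T :=
  Algebra.leftMulMatrix (Algebra.TensorProduct.basis T b) t

theorem mulMat_map (φ : T →ₐ[k] T') (t : T ⊗[k] H) :
    mulMat b (Algebra.TensorProduct.map φ (AlgHom.id k H) t) = (mulMat b t).map φ := by
  induction t using TensorProduct.induction_on with
  | zero => simp [mulMat, map_zero]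
  | tmul x h =>
    ext i j
    simp only [mulMat, Algebra.TensorProduct.map_tmul, AlgHom.coe_id, id_eq, Matrix.map_apply,
      Algebra.leftMulMatrix_eq_repr_mul, Algebra.TensorProduct.basis_apply,
      Algebra.TensorProduct.tmul_mul_tmul, mul_one, Algebra.TensorProduct.basis_repr_tmul,
      Finsupp.smul_apply, Finsupp.mapRange_apply, smul_eq_mul, map_mul, AlgHom.commutes]
  | add a c ha hc =>
    simp only [mulMat, map_add] at ha hc ⊢
    rw [ha, hc]
    ext i j
    simp

theorem charpoly_mulMat (t : T ⊗[k] H) :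
    (mulMat b t).charpoly = letI := Module.Finite.of_basis b; letI := Module.Free.of_basis b;
      (Algebra.lmul T (T ⊗[k] H) t).charpoly := by
  letI := Module.Finite.of_basis b
  letI := Module.Free.of_basis b
  rw [← LinearMap.charpoly_toMatrix _ (Algebra.TensorProduct.basis T b)]
  rfl

theorem charpoly_mulMat_algEquiv (e : T ⊗[k] H ≃ₐ[T] T ⊗[k] H) (t : T ⊗[k] H) :
    (mulMat b (e t)).charpoly = (mulMat b t).charpoly := by
  letI := Module.Finite.of_basis b
  letI := Module.Free.of_basis b
  rw [charpoly_mulMat, charpoly_mulMat, ← LinearEquiv.charpoly_conj e.toLinearEquiv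
    (Algebra.lmul T (T ⊗[k] H) t)]
  congr 1
  refine LinearMap.ext fun y => ?_
  simp [LinearEquiv.conj_apply]

end Matrices

section Slot

variable (k : Type u) [CommRing k] (H : Type v) [CommRing H] [HopfAlgebra k H]

local notation "𝒮" => HopfAlgebra.antipode k (A := H)
local notation "Δ" => Coalgebra.comul (R := k) (A := H)

/-- `a ⊗ b ↦ (a ⊗ 1) Δ(b)`. -/
def slotHom : H ⊗[k] H →ₐ[k] H ⊗[k] H :=
  Algebra.TensorProduct.lift Algebra.TensorProduct.includeLeft (Bialgebra.comulAlgHom k H)
    fun _ _ => Commute.all _ _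

/-- `a ⊗ b ↦ (a ⊗ 1) (S ⊗ 1) Δ(b)`. -/
def slotInv : H ⊗[k] H →ₐ[k] H ⊗[k] H :=
  Algebra.TensorProduct.lift Algebra.TensorProduct.includeLeft
    ((Algebra.TensorProduct.map (HopfAlgebra.antipodeAlgHom k H) (AlgHom.id k H)).comp
      (Bialgebra.comulAlgHom k H))
    fun _ _ => Commute.all _ _

variable {k H}

theorem map_antipode_left (t : H ⊗[k] H) :
    Algebra.TensorProduct.map (HopfAlgebra.antipodeAlgHom k H) (AlgHom.id k H) t = (𝒮).rTensor H t := by
  induction t using TensorProduct.induction_on with
  | zero => simp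
  | tmul x h => rfl
  | add a b ha hb => simp [ha, hb]

theorem slotHom_tmul (a b : H) : slotHom k H (a ⊗ₜ[k] b) = (a ⊗ₜ[k] (1 : H)) * Δ b := by
  simp [slotHom]

theorem slotInv_tmul (a b : H) :
    slotInv k H (a ⊗ₜ[k] b) = (a ⊗ₜ[k] (1 : H)) * (𝒮).rTensor H (Δ b) := by
  simp [slotInv, map_antipode_left]

theorem coassoc_symm (b : H) :
    (TensorProduct.assoc k H H H).symm ((Δ).lTensor H (Δ b)) = (Δ).rTensor H (Δ b) := by
  rw [LinearEquiv.symm_apply_eq]
  exact (LinearMap.congr_fun Coalgebra.coassoc b).symm

theorem slotHom_comp_slotInv : (slotHom k H).comp (slotInv k H) = AlgHom.id k _ := by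
  apply Algebra.TensorProduct.ext
  · ext a
    simp only [AlgHom.coe_comp, Function.comp_apply, Algebra.TensorProduct.includeLeft_apply,
      AlgHom.coe_id, id_eq]
    rw [slotInv_tmul]
    simp [Algebra.TensorProduct.one_def, slotHom_tmul]
  · ext b
    have h : ∀ t : H ⊗[k] H, slotHom k H ((𝒮).rTensor H t) =
        (LinearMap.mul' k H ∘ₗ (𝒮).rTensor H).rTensor H
          ((TensorProduct.assoc k H H H).symm ((Δ).lTensor H t)) := by
      intro t
      induction t using TensorProduct.induction_on with
      | zero => simp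
      | tmul x h =>
        rw [LinearMap.rTensor_tmul, slotHom_tmul, LinearMap.lTensor_tmul]
        generalize Δ h = s
        induction s using TensorProduct.induction_on with
        | zero => simp
        | tmul y g => simp
        | add a b ha hb => simp only [map_add, mul_add, TensorProduct.tmul_add, ha, hb]
      | add a b ha hb => simp only [map_add, ha, hb]
    simp only [AlgHom.coe_comp, AlgHom.coe_restrictScalars', Function.comp_apply,
      Algebra.TensorProduct.includeRight_apply, AlgHom.coe_id, id_eq]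
    rw [slotInv_tmul, ← Algebra.TensorProduct.one_def, one_mul, h, coassoc_symm,
      ← LinearMap.rTensor_comp_apply, LinearMap.comp_assoc,
      HopfAlgebra.mul_antipode_rTensor_comul, LinearMap.rTensor_comp_apply,
      Coalgebra.rTensor_counit_comul]
    simp

theorem slotInv_comp_slotHom : (slotInv k H).comp (slotHom k H) = AlgHom.id k _ := by
  apply Algebra.TensorProduct.ext
  · ext a
    simp only [AlgHom.coe_comp, Function.comp_apply, Algebra.TensorProduct.includeLeft_apply,
      AlgHom.coe_id, id_eq]
    rw [slotHom_tmul]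
    simp [Algebra.TensorProduct.one_def, slotInv_tmul]
  · ext b
    have h : ∀ t : H ⊗[k] H, slotInv k H t =
        (LinearMap.mul' k H ∘ₗ (𝒮).lTensor H).rTensor H
          ((TensorProduct.assoc k H H H).symm ((Δ).lTensor H t)) := by
      intro t
      induction t using TensorProduct.induction_on with
      | zero => simp
      | tmul x h =>
        rw [slotInv_tmul, LinearMap.lTensor_tmul]
        generalize Δ h = s
        induction s using TensorProduct.induction_on with
        | zero => simp
        | tmul y g => simp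
        | add a b ha hb => simp only [map_add, mul_add, TensorProduct.tmul_add, ha, hb]
      | add a b ha hb => simp only [map_add, ha, hb]
    simp only [AlgHom.coe_comp, AlgHom.coe_restrictScalars', Function.comp_apply,
      Algebra.TensorProduct.includeRight_apply, AlgHom.coe_id, id_eq]
    rw [slotHom_tmul, ← Algebra.TensorProduct.one_def, one_mul, h, coassoc_symm,
      ← LinearMap.rTensor_comp_apply, LinearMap.comp_assoc,
      HopfAlgebra.mul_antipode_lTensor_comul, LinearMap.rTensor_comp_apply,
      Coalgebra.rTensor_counit_comul]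
    simp

variable (k H) in
/-- The automorphism `a ⊗ b ↦ (a ⊗ 1) Δ(b)`. -/
def slot : H ⊗[k] H ≃ₐ[k] H ⊗[k] H :=
  AlgEquiv.ofAlgHom (slotHom k H) (slotInv k H) slotHom_comp_slotInv slotInv_comp_slotHom

end Slot

section Norm

variable {k : Type u} [CommRing k] {H : Type v} [CommRing H] [HopfAlgebra k H]
variable {R : Type w} [CommRing R] [Algebra k R] [HopfRep.Comod k H R] [GLin.IsCoactAlg k H R]
variable {ι : Type*} [Fintype ι] [DecidableEq ι] (b : Module.Basis ι k H)

local notation "ρ" => GLin.coactAlgHom k H R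
local notation "incl" =>
  (Algebra.TensorProduct.includeLeft : R →ₐ[k] R ⊗[k] H)

variable (k H R) in
/-- The automorphism of `(R ⊗ H) ⊗ H` over `R ⊗ H`. -/
def slotOver : (R ⊗[k] H) ⊗[k] H ≃ₐ[R ⊗[k] H] (R ⊗[k] H) ⊗[k] H :=
  let a := Algebra.TensorProduct.assoc k k k R H H
  AlgEquiv.ofRingEquiv (f := ((a.trans (Algebra.TensorProduct.congr AlgEquiv.refl (slot k H))).trans
    a.symm).toRingEquiv) fun z => by
    change a.symm (Algebra.TensorProduct.map _ (slot k H).toAlgHom (a (z ⊗ₜ[k] (1 : H)))) = z ⊗ₜ[k] (1 : H)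
    induction z using TensorProduct.induction_on with
    | zero => simp
    | tmul r h =>
      simp [a, slot, slotHom_tmul, Algebra.TensorProduct.one_def]
    | add x y hx hy => simp only [TensorProduct.add_tmul, map_add, hx, hy]

theorem map_coact_coact (x : R) :
    Algebra.TensorProduct.map ρ (AlgHom.id k H) (ρ x) =
      slotOver k H R (Algebra.TensorProduct.map incl (AlgHom.id k H) (ρ x)) := by
  have h1 : ∀ t : R ⊗[k] H, Algebra.TensorProduct.assoc k k k R H H
      (Algebra.TensorProduct.map ρ (AlgHom.id k H) t) =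
      TensorProduct.assoc k R H H ((HopfRep.Comod.coact (k := k) (A := H)).rTensor H t) := by
    intro t
    induction t using TensorProduct.induction_on with
    | zero => simp
    | tmul y h =>
      simp only [Algebra.TensorProduct.map_tmul, AlgHom.coe_id, id_eq, LinearMap.rTensor_tmul,
        GLin.coactAlgHom_apply]
      rfl
    | add p q hp hq => simp only [map_add, hp, hq]
  have h2 : ∀ t : R ⊗[k] H, Algebra.TensorProduct.assoc k k k R H H
      (slotOver k H R (Algebra.TensorProduct.map incl (AlgHom.id k H) t)) =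
      (Coalgebra.comul (R := k) (A := H)).lTensor R t := by
    intro t
    induction t using TensorProduct.induction_on with
    | zero => simp
    | tmul y h =>
      simp [slotOver, slot, slotHom_tmul, ← Algebra.TensorProduct.one_def]
    | add p q hp hq => simp only [map_add, hp, hq]
  apply (Algebra.TensorProduct.assoc k k k R H H).injective
  rw [h1, h2]
  exact rTensor_coact_coact x

/-- The characteristic polynomial of `ρ x`. -/
def normPoly (x : R) : Polynomial R := (mulMat b (ρ x)).charpoly

theorem normPoly_monic (x : R) : (normPoly b x).Monic := Matrix.charpoly_monic _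

theorem coeff_normPoly_mem (x : R) (i : ℕ) :
    (normPoly b x).coeff i ∈ GLin.invariants k H R := by
  have h : (normPoly b x).map (ρ : R →+* R ⊗[k] H) = (normPoly b x).map (incl : R →+* R ⊗[k] H) := by
    rw [normPoly, ← Matrix.charpoly_map, ← Matrix.charpoly_map]
    change ((mulMat b (ρ x)).map ρ).charpoly = ((mulMat b (ρ x)).map incl).charpoly
    rw [← mulMat_map, ← mulMat_map, map_coact_coact, charpoly_mulMat_algEquiv]
  have h' := congrArg (fun p => Polynomial.coeff p i) h
  simp only [Polynomial.coeff_map] at h'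
  exact (GLin.mem_invariants_iff k H R _).2 h'

theorem eval_normPoly (x : R) : (normPoly b x).eval x = 0 := by
  have h1 : Polynomial.aeval (ρ x) (normPoly b x) = 0 := by
    apply Algebra.leftMulMatrix_injective (Algebra.TensorProduct.basis R b)
    rw [← Polynomial.aeval_algHom_apply, map_zero]
    exact Matrix.aeval_self_charpoly _
  let ev : R ⊗[k] H →ₐ[R] R :=
    Algebra.TensorProduct.lift (AlgHom.id R R)
      ((Algebra.ofId k R).comp (Bialgebra.counitAlgHom k H)) fun _ _ => Commute.all _ _
  have hev : ∀ t : R ⊗[k] H, ev t =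
      TensorProduct.rid k R ((CoalgebraStruct.counit (R := k) (A := H)).lTensor R t) := by
    intro t
    induction t using TensorProduct.induction_on with
    | zero => simp
    | tmul y h => simp [ev, Algebra.smul_def, mul_comm]
    | add p q hp hq => simp only [map_add, hp, hq]
  have h2 : ev (ρ x) = x := by
    rw [hev, lTensor_counit_coact]
    simp
  have h3 := congrArg ev h1
  rw [← Polynomial.aeval_algHom_apply, h2, map_zero, Polynomial.aeval_def] at h3
  exact h3

theorem coeff_normPoly_mem_prime (x : R) (P : Ideal (GLin.invariants k H R)) [P.IsPrime]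
    (Q₀ : Ideal R) [Q₀.IsPrime] (hQ₀ : Q₀.comap (GLin.invariants k H R).val.toRingHom = P)
    (hx : ∀ Q : Ideal R, Q.IsPrime → Q.comap (GLin.invariants k H R).val.toRingHom = P → x ∈ Q)
    (i : ℕ) (hi : i < Fintype.card ι) :
    (⟨(normPoly b x).coeff i, coeff_normPoly_mem b x i⟩ : GLin.invariants k H R) ∈ P := by
  let L := FractionRing (R ⧸ Q₀)
  let π : R →ₐ[k] L := ((Algebra.ofId (R ⧸ Q₀) L).restrictScalars k).comp (Ideal.Quotient.mkₐ k Q₀)
  have hπ : ∀ r, π r = 0 ↔ r ∈ Q₀ := fun r => by
    change algebraMap (R ⧸ Q₀) L (Ideal.Quotient.mk Q₀ r) = 0 ↔ _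
    rw [map_eq_zero_iff _ (IsFractionRing.injective (R ⧸ Q₀) L), Ideal.Quotient.eq_zero_iff_mem]
  let ψ : R →ₐ[k] L ⊗[k] H := (Algebra.TensorProduct.map π (AlgHom.id k H)).comp ρ
  have hnil : IsNilpotent (ψ x) := by
    rw [← mem_nilradical, nilradical_eq_sInf, Submodule.mem_sInf]
    intro (N : Ideal (L ⊗[k] H)) (hN : N.IsPrime)
    have hcl : N.comap (Algebra.TensorProduct.includeLeftRingHom : L →+* L ⊗[k] H) = ⊥ :=
      (Ideal.eq_bot_or_top _).resolve_right (Ideal.IsPrime.ne_top inferInstance)
    refine hx (N.comap ψ.toRingHom) inferInstance (Ideal.ext fun a => ?_)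
    have ha : ψ a.1 = π a.1 ⊗ₜ[k] (1 : H) := by
      simp [ψ, GLin.coactAlgHom_apply, (GLin.mem_invariants_iff k H R a.1).1 a.2]
    have e1 := SetLike.ext_iff.1 hcl (π a.1)
    rw [← hQ₀, Ideal.mem_comap, Ideal.mem_comap, Ideal.mem_comap]
    change ψ a.1 ∈ N ↔ a.1 ∈ Q₀
    rw [ha, ← hπ, ← Ideal.mem_bot]
    exact e1
  have hM : IsNilpotent ((mulMat b (ρ x)).map π) := by
    rw [← mulMat_map]
    exact hnil.map _
  have hcp := Matrix.isNilpotent_charpoly_sub_pow_of_isNilpotent hM
  rw [isNilpotent_iff_eq_zero, sub_eq_zero] at hcp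
  have hc : π ((normPoly b x).coeff i) = 0 := by
    have h := congrArg (fun p => Polynomial.coeff p i) hcp
    change (((mulMat b (ρ x)).map π.toRingHom).charpoly).coeff i = _ at h
    rw [Matrix.charpoly_map, Polynomial.coeff_map, Polynomial.coeff_X_pow, if_neg hi.ne] at h
    exact h
  rw [← hQ₀, Ideal.mem_comap]
  exact (hπ _).1 hc

theorem isIntegral_invariants [Module.Free k H] [Module.Finite k H] :
    Algebra.IsIntegral (GLin.invariants k H R) R := by
  classical
  let b := Module.Free.chooseBasis k H
  refine ⟨fun x => ?_⟩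
  obtain ⟨p, hp, -, hm⟩ := Polynomial.lifts_and_natDegree_eq_and_monic
    (f := (GLin.invariants k H R).val.toRingHom) (p := normPoly b x)
    ((Polynomial.lifts_iff_coeff_lifts _).2 fun i => ⟨⟨_, coeff_normPoly_mem b x i⟩, rfl⟩)
    (normPoly_monic b x)
  refine ⟨p, hm, ?_⟩
  change Polynomial.eval₂ (GLin.invariants k H R).val.toRingHom x p = 0
  rw [← Polynomial.eval_map, hp]
  exact eval_normPoly b x

theorem hasGoingDown_invariants [Module.Free k H] [Module.Finite k H] [Nontrivial k] :
    Algebra.HasGoingDown (GLin.invariants k H R) R := by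
  classical
  haveI := isIntegral_invariants (k := k) (H := H) (R := R)
  let b := Module.Free.chooseBasis k H
  refine ⟨fun {p} _ Q hQ hlt => ?_⟩
  let v : GLin.invariants k H R →+* R := (GLin.invariants k H R).val.toRingHom
  let S : Submonoid R := (p.primeCompl.map v) ⊔ Q.primeCompl
  have hdis : Disjoint ((p.map v : Ideal R) : Set R) (S : Set R) := by
    rw [Set.disjoint_left]
    intro z hz hzS
    obtain ⟨_, ⟨a, ha, rfl⟩, s, hs, rfl⟩ := Submonoid.mem_sup.1 hzS
    refine hs ?_
    have hall : ∀ Q' : Ideal R, Q'.IsPrime → Q'.comap v = p → s ∈ Q' := fun Q' hQ' he => by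
      have hz' : v a * s ∈ Q' := Ideal.map_le_iff_le_comap.2 he.ge hz
      exact (hQ'.mem_or_mem hz').resolve_left fun h => ha (he ▸ h)
    obtain ⟨Q₀, -, hQ₀p, hQ₀⟩ := Ideal.exists_ideal_over_prime_of_isIntegral p (⊥ : Ideal R) (by
      intro a ha
      have h0 : a = 0 := Subtype.ext ha
      rw [h0]
      exact p.zero_mem)
    have hcoef : ∀ i < Fintype.card _, (normPoly b s).coeff i ∈ Q := fun i hi => by
      have h1 := coeff_normPoly_mem_prime b s p Q₀ hQ₀ hall i hi
      exact (hlt.le h1 : _ ∈ Q.under _)
    have hev := eval_normPoly b s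
    rw [Polynomial.eval_eq_sum_range, Finset.sum_range_succ] at hev
    have hdeg : (normPoly b s).natDegree = Fintype.card (Module.Free.ChooseBasisIndex k H) := by
      have : Nontrivial R := nontrivial_of_ne (1 : R) 0 fun h =>
        hQ.ne_top ((Ideal.eq_top_iff_one Q).2 (h ▸ Q.zero_mem))
      exact Matrix.charpoly_natDegree_eq_dim _
    rw [(normPoly_monic b s).coeff_natDegree, one_mul] at hev
    refine hQ.mem_of_pow_mem (normPoly b s).natDegree ?_
    rw [eq_neg_of_add_eq_zero_right hev]
    exact Q.neg_mem (Q.sum_mem fun i hi => Q.mul_mem_right _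
      (hcoef i (by rw [← hdeg]; exact Finset.mem_range.1 hi)))
  obtain ⟨P, hP, hPle, hPdis⟩ := Ideal.exists_le_prime_disjoint _ _ hdis
  refine ⟨P, fun z hz => ?_, hP, ⟨le_antisymm ?_ ?_⟩⟩
  · by_contra h
    exact Set.disjoint_left.1 hPdis hz (SetLike.le_def.1 (le_sup_right (a := p.primeCompl.map v)) h)
  · exact Ideal.map_le_iff_le_comap.1 hPle
  · intro a ha
    by_contra h
    exact Set.disjoint_left.1 hPdis ha
      (SetLike.le_def.1 (le_sup_left (b := Q.primeCompl)) ⟨a, h, rfl⟩)

end Norm

end Groth.Agent.InvFin
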