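import Mathlib.RingTheory.Flat.Basic
import Mathlib.RingTheory.TensorProduct.Basic
import Mathlib.Algebra.GroupWithZero.NonZeroDivisors
import Mathlib.Tactic.LinearCombination

/-!
# `s ⊗ 1` is a non-zero-divisor for flat algebras
-/

noncomputable section

open TensorProduct

universe u v w

namespace Groth.Agent.InvFin

theorem tmul_one_mem {k : Type u} [CommRing k] {H : Type v} [CommRing H] [Algebra k H]
    [Module.Flat k H] {R : Type w} [CommRing R] [Algebra k R] {s : R} (hs : s ∈ nonZeroDivisors R) :
    s ⊗ₜ[k] (1 : H) ∈ nonZeroDivisors (R ⊗[k] H) := by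
  rw [mem_nonZeroDivisors_iff_right]
  intro t ht
  have hinj : Function.Injective ((LinearMap.mulLeft k s).rTensor H) :=
    Module.Flat.rTensor_preserves_injective_linearMap _ fun a b h => by
      have h' : (a - b) * s = 0 := by
        simp only [LinearMap.mulLeft_apply] at h
        linear_combination h
      exact sub_eq_zero.1 (mem_nonZeroDivisors_iff_right.1 hs _ h')
  apply hinj
  rw [map_zero]
  refine Eq.trans ?_ ht
  clear ht
  induction t using TensorProduct.induction_on with
  | zero => simp
  | tmul x h => simp [mul_comm x s]
  | add a b ha hb => simp only [map_add, add_mul, ha, hb]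

end Groth.Agent.InvFin
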