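import Groth.Prelude.Def_GLin
import Groth.Agent.InvFin.Flat
import Mathlib.RingTheory.HopfAlgebra.Convolution
import Mathlib.RingTheory.TensorProduct.Free
import Mathlib.RingTheory.Flat.Basic

/-!
# Coactions by algebra maps: the shear automorphism
-/

noncomputable section

open TensorProduct

universe u v w

namespace Groth.Agent.InvFin

variable {k : Type u} [CommRing k] {H : Type v} [CommRing H] [HopfAlgebra k H]
variable {R : Type w} [CommRing R] [Algebra k R] [HopfRep.Comod k H R] [GLin.IsCoactAlg k H R]

local notation "ρ" => GLin.coactAlgHom k H R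
local notation "𝒮" => HopfAlgebra.antipode k (A := H)
local notation "Δ" => Coalgebra.comul (R := k) (A := H)

theorem rTensor_coact_coact (r : R) :
    (TensorProduct.assoc k R H H) ((HopfRep.Comod.coact (k := k) (A := H)).rTensor H (ρ r)) =
      (Δ).lTensor R (ρ r) :=
  LinearMap.congr_fun (HopfRep.Comod.coassoc (k := k) (A := H) (V := R)) r

theorem lTensor_counit_coact (r : R) :
    (CoalgebraStruct.counit (R := k) (A := H)).lTensor R (ρ r) = r ⊗ₜ[k] (1 : k) :=
  LinearMap.congr_fun (HopfRep.Comod.counit_comp (k := k) (A := H) (V := R)) r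

/-- `r ⊗ h ↦ ρ(r) (1 ⊗ h)`. -/
def shearHom : R ⊗[k] H →ₐ[k] R ⊗[k] H :=
  Algebra.TensorProduct.lift ρ Algebra.TensorProduct.includeRight fun _ _ => Commute.all _ _

theorem shearHom_tmul (r : R) (h : H) : shearHom (r ⊗ₜ[k] h) = ρ r * ((1 : R) ⊗ₜ[k] h) := by
  simp [shearHom]

theorem shearHom_tmul_one (r : R) : shearHom (r ⊗ₜ[k] (1 : H)) = ρ r := by
  rw [shearHom_tmul, ← Algebra.TensorProduct.one_def, mul_one]

/-- `r ⊗ h ↦ (1 ⊗ S) ρ(r) (1 ⊗ h)`. -/
def shearInv : R ⊗[k] H →ₐ[k] R ⊗[k] H :=
  Algebra.TensorProduct.lift
    ((Algebra.TensorProduct.map (AlgHom.id k R) (HopfAlgebra.antipodeAlgHom k H)).comp ρ)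
    Algebra.TensorProduct.includeRight fun _ _ => Commute.all _ _

theorem map_antipode (t : R ⊗[k] H) :
    Algebra.TensorProduct.map (AlgHom.id k R) (HopfAlgebra.antipodeAlgHom k H) t = (𝒮).lTensor R t := by
  induction t using TensorProduct.induction_on with
  | zero => simp
  | tmul x h => rfl
  | add a b ha hb => simp [ha, hb]

theorem shearInv_tmul (r : R) (h : H) :
    shearInv (r ⊗ₜ[k] h) = (𝒮).lTensor R (ρ r) * ((1 : R) ⊗ₜ[k] h) := by
  simp [shearInv, map_antipode]

theorem shearInv_comp_shearHom : (shearInv (k := k) (H := H) (R := R)).comp shearHom = AlgHom.id k _ := by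
  apply Algebra.TensorProduct.ext
  · ext r
    have h : ∀ t : R ⊗[k] H, shearInv t =
        ((LinearMap.mul' k H ∘ₗ (𝒮).rTensor H).lTensor R)
          (TensorProduct.assoc k R H H ((HopfRep.Comod.coact (k := k) (A := H)).rTensor H t)) := by
      intro t
      induction t using TensorProduct.induction_on with
      | zero => simp
      | tmul x h =>
        rw [shearInv_tmul, LinearMap.rTensor_tmul,
          show HopfRep.Comod.coact (k := k) (A := H) x = ρ x from rfl]
        generalize ρ x = s
        induction s using TensorProduct.induction_on with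
        | zero => simp
        | tmul y g => simp
        | add a b ha hb => simp only [map_add, add_mul, TensorProduct.add_tmul, ha, hb]
      | add a b ha hb => simp only [map_add, ha, hb]
    simp only [AlgHom.coe_comp, Function.comp_apply, Algebra.TensorProduct.includeLeft_apply,
      AlgHom.coe_id, id_eq]
    rw [shearHom_tmul_one, h, rTensor_coact_coact, ← LinearMap.lTensor_comp_apply,
      LinearMap.comp_assoc, HopfAlgebra.mul_antipode_rTensor_comul, LinearMap.lTensor_comp_apply,
      lTensor_counit_coact]
    simp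
  · ext h
    simp only [AlgHom.coe_comp, AlgHom.coe_restrictScalars', Function.comp_apply,
      Algebra.TensorProduct.includeRight_apply, AlgHom.coe_id, id_eq]
    rw [shearHom_tmul, map_one, one_mul, shearInv_tmul, map_one]
    simp [Algebra.TensorProduct.one_def]

theorem shearHom_comp_shearInv : (shearHom (k := k) (H := H) (R := R)).comp shearInv = AlgHom.id k _ := by
  apply Algebra.TensorProduct.ext
  · ext r
    have h : ∀ t : R ⊗[k] H, shearHom ((𝒮).lTensor R t) =
        ((LinearMap.mul' k H ∘ₗ (𝒮).lTensor H).lTensor R)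
          (TensorProduct.assoc k R H H ((HopfRep.Comod.coact (k := k) (A := H)).rTensor H t)) := by
      intro t
      induction t using TensorProduct.induction_on with
      | zero => simp
      | tmul x h =>
        rw [LinearMap.lTensor_tmul, shearHom_tmul, LinearMap.rTensor_tmul,
          show HopfRep.Comod.coact (k := k) (A := H) x = ρ x from rfl]
        generalize ρ x = s
        induction s using TensorProduct.induction_on with
        | zero => simp
        | tmul y g => simp
        | add a b ha hb => simp only [map_add, add_mul, TensorProduct.add_tmul, ha, hb]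
      | add a b ha hb => simp only [map_add, ha, hb]
    simp only [AlgHom.coe_comp, Function.comp_apply, Algebra.TensorProduct.includeLeft_apply,
      AlgHom.coe_id, id_eq]
    rw [shearInv_tmul, ← Algebra.TensorProduct.one_def, mul_one, h, rTensor_coact_coact,
      ← LinearMap.lTensor_comp_apply, LinearMap.comp_assoc,
      HopfAlgebra.mul_antipode_lTensor_comul, LinearMap.lTensor_comp_apply, lTensor_counit_coact]
    simp
  · ext h
    simp only [AlgHom.coe_comp, AlgHom.coe_restrictScalars', Function.comp_apply,
      Algebra.TensorProduct.includeRight_apply, AlgHom.coe_id, id_eq]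
    rw [shearInv_tmul, map_one]
    simp only [Algebra.TensorProduct.one_def, LinearMap.lTensor_tmul, HopfAlgebra.antipode_one]
    rw [Algebra.TensorProduct.tmul_mul_tmul, one_mul, one_mul, shearHom_tmul, map_one, one_mul]

variable (k H R) in
/-- The shear automorphism of `R ⊗ H`. -/
def shear : R ⊗[k] H ≃ₐ[k] R ⊗[k] H :=
  AlgEquiv.ofAlgHom shearHom shearInv shearHom_comp_shearInv shearInv_comp_shearHom

theorem shear_tmul_one (r : R) : shear k H R (r ⊗ₜ[k] (1 : H)) = ρ r := shearHom_tmul_one r

omit [HopfRep.Comod k H R] [GLin.IsCoactAlg k H R] in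
theorem mem_nonZeroDivisors_tmul_one [Module.Flat k H] {s : R} (hs : s ∈ nonZeroDivisors R) :
    s ⊗ₜ[k] (1 : H) ∈ nonZeroDivisors (R ⊗[k] H) :=
  tmul_one_mem hs

theorem mem_nonZeroDivisors_coact [Module.Flat k H] {s : R} (hs : s ∈ nonZeroDivisors R) :
    ρ s ∈ nonZeroDivisors (R ⊗[k] H) := by
  rw [← shear_tmul_one]
  exact MulEquivClass.map_nonZeroDivisors (shear k H R) ▸ Submonoid.mem_map_of_mem _ (mem_nonZeroDivisors_tmul_one hs)

end Groth.Agent.InvFin
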