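import Mathlib.RingTheory.IntegralClosure.IntegrallyClosed
import Mathlib.RingTheory.Idempotents

/-!
# Equalisers of maps preserving non-zero-divisors out of a product of normal domains
-/

noncomputable section

open scoped nonZeroDivisors

universe u v

namespace Groth.Agent.InvFin

variable {ι : Type u} {D : ι → Type u} [∀ i, CommRing (D i)] [∀ i, IsDomain (D i)]

theorem mem_nonZeroDivisors_pi {s : Π i, D i} (h : ∀ i, s i ≠ 0) : s ∈ (Π i, D i)⁰ := by
  rw [mem_nonZeroDivisors_iff_right]
  intro t ht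
  funext i
  exact (mul_eq_zero.1 (congrFun ht i)).resolve_right (h i)

open Classical in
/-- The support idempotent. -/
def supp (a : Π i, D i) : Π i, D i := fun i => if a i = 0 then 0 else 1

theorem supp_mul_self (a : Π i, D i) : supp a * supp a = supp a := by
  funext i
  simp [supp]

theorem mul_supp (a : Π i, D i) : a * supp a = a := by
  funext i
  simp only [Pi.mul_apply, supp]
  split_ifs with h <;> simp [h]

variable {R : Type v} [CommRing R]

theorem map_supp_eq {f f' : (Π i, D i) →+* R}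
    (hf : ∀ s ∈ (Π i, D i)⁰, f s ∈ R⁰) (hf' : ∀ s ∈ (Π i, D i)⁰, f' s ∈ R⁰)
    {a : Π i, D i} (h : f a = f' a) : f (supp a) = f' (supp a) := by
  classical
  have hu : a + (1 - supp a) ∈ (Π i, D i)⁰ := mem_nonZeroDivisors_pi fun i => by
    simp only [Pi.add_apply, Pi.sub_apply, Pi.one_apply, supp]
    split_ifs with hi <;> simp [hi]
  have key : ∀ (g g' : (Π i, D i) →+* R), (∀ s ∈ (Π i, D i)⁰, g s ∈ R⁰) → g a = g' a →
      g (supp a) * (1 - g' (supp a)) = 0 := fun g g' hg he => by
    refine mem_nonZeroDivisors_iff_right.1 (hg _ hu) _ ?_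
    have h1 : g' a * (1 - g' (supp a)) = 0 := by
      rw [mul_sub, mul_one, ← map_mul, mul_supp, sub_self]
    have h2 : g (a + (1 - supp a)) * g (supp a) = g a := by
      rw [← map_mul, add_mul, sub_mul, one_mul, supp_mul_self, sub_self, add_zero, mul_supp]
    calc g (supp a) * (1 - g' (supp a)) * g (a + (1 - supp a))
        = g (a + (1 - supp a)) * g (supp a) * (1 - g' (supp a)) := by ring
      _ = 0 := by rw [h2, he, h1]
  have e1 := key f f' hf h
  have e2 := key f' f hf' h.symm
  linear_combination e1 - e2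

variable [Fintype ι] [∀ i, IsIntegrallyClosed (D i)]

omit [Fintype ι] [∀ i, IsIntegrallyClosed (D i)] in
theorem isDomain_of_zero {σ : Type u} [Nonempty σ] {G : σ → Type u} [∀ i, CommRing (G i)]
    [∀ i, IsDomain (G i)] (E : Subring (Π i, G i))
    (h0 : ∀ x ∈ E, ∀ i, x i = 0 → x = 0) : IsDomain E := by
  obtain ⟨i⟩ := ‹Nonempty σ›
  have hnt : Nontrivial E :=
    ⟨⟨0, 1, fun h => zero_ne_one (α := G i) (congrArg (fun x : E => x.1 i) h)⟩⟩
  have hnz : NoZeroDivisors E := ⟨fun {x y} h => by
    have h' : x.1 i * y.1 i = 0 := congrArg (fun x : E => x.1 i) h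
    exact (mul_eq_zero.1 h').imp (fun e => Subtype.ext (h0 _ x.2 i e))
      fun e => Subtype.ext (h0 _ y.2 i e)⟩
  exact NoZeroDivisors.to_isDomain _

omit [Fintype ι] [∀ i, IsIntegrallyClosed (D i)] in
theorem isIntegrallyClosed_of_maps {E : Type u} [CommRing E] [IsDomain E] {σ : Type u}
    {G : σ → Type u} [∀ i, CommRing (G i)] [∀ i, IsDomain (G i)] [∀ i, IsIntegrallyClosed (G i)]
    (φ : ∀ i, E →+* G i) (hφ : ∀ i, Function.Injective (φ i))
    (hdiv : ∀ a b : E, b ≠ 0 → (∀ i, ∃ c, c * φ i b = φ i a) → ∃ c, c * b = a) :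
    IsIntegrallyClosed E := by
  rw [isIntegrallyClosed_iff (FractionRing E)]
  intro x hx
  obtain ⟨a, b, hb, rfl⟩ := IsFractionRing.div_surjective E x
  have hb' : algebraMap E (FractionRing E) b ≠ 0 :=
    (map_ne_zero_iff _ (IsFractionRing.injective E (FractionRing E))).2 (nonZeroDivisors.ne_zero hb)
  have hc : ∀ i, ∃ c : G i, c * φ i b = φ i a := fun i => by
    have hinj : Function.Injective ((algebraMap (G i) (FractionRing (G i))).comp (φ i)) :=
      (IsFractionRing.injective (G i) (FractionRing (G i))).comp (hφ i)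
    let ψ : FractionRing E →+* FractionRing (G i) := IsFractionRing.lift hinj
    have hcomm : (algebraMap (G i) (FractionRing (G i))).comp (φ i) =
        ψ.comp (algebraMap E (FractionRing E)) :=
      RingHom.ext fun z => by
        simp only [ψ, IsFractionRing.lift_algebraMap, RingHom.comp_apply]
    have hint := hx.map_of_comp_eq (φ i) ψ hcomm
    obtain ⟨c, hc⟩ := IsIntegrallyClosed.algebraMap_eq_of_integral hint
    refine ⟨c, IsFractionRing.injective (G i) (FractionRing (G i)) ?_⟩
    rw [map_mul, hc, map_div₀, IsFractionRing.lift_algebraMap, IsFractionRing.lift_algebraMap,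
      RingHom.comp_apply, RingHom.comp_apply]
    have hne : algebraMap (G i) (FractionRing (G i)) (φ i b) ≠ 0 :=
      (map_ne_zero_iff _ hinj).2 (nonZeroDivisors.ne_zero hb)
    rw [div_mul_cancel₀ _ hne]
  obtain ⟨c, hc⟩ := hdiv a b (nonZeroDivisors.ne_zero hb) hc
  exact ⟨c, by rw [eq_div_iff hb', ← map_mul, hc]⟩

omit [Fintype ι] [∀ i, IsIntegrallyClosed (D i)] in
theorem isIntegrallyClosed_of_zero {σ : Type u} [Nonempty σ] {G : σ → Type u} [∀ i, CommRing (G i)]
    [∀ i, IsDomain (G i)] [∀ i, IsIntegrallyClosed (G i)] (E : Subring (Π i, G i))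
    (h0 : ∀ x ∈ E, ∀ i, x i = 0 → x = 0)
    (hdiv : ∀ a ∈ E, ∀ b ∈ E, (∀ i, b i ≠ 0) → ∀ c : Π i, G i, c * b = a → c ∈ E) :
    IsIntegrallyClosed E := by
  have := isDomain_of_zero E h0
  refine isIntegrallyClosed_of_maps (fun i => (Pi.evalRingHom G i).comp E.subtype)
    (fun i => (injective_iff_map_eq_zero _).2 fun z hz => Subtype.ext (h0 _ z.2 i hz))
    fun a b hb hc => ?_
  choose c hc using hc
  have hb0 : ∀ i, b.1 i ≠ 0 := fun i h => hb (Subtype.ext (h0 _ b.2 i h))
  exact ⟨⟨c, hdiv _ a.2 _ b.2 hb0 c (funext hc)⟩, Subtype.ext (funext hc)⟩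

theorem eqLocus_isProdNormalDomains (F : Set ((Π i, D i) →+* R))
    (hF : ∀ f ∈ F, ∀ s ∈ nonZeroDivisors (Π i, D i), f s ∈ nonZeroDivisors R)
    (A : Subring (Π i, D i)) (hA : ∀ a, a ∈ A ↔ ∀ f ∈ F, ∀ f' ∈ F, f a = f' a) :
    ∃ (κ : Type u) (_ : Fintype κ) (E : κ → Type u) (_ : ∀ j, CommRing (E j))
      (_ : ∀ j, IsDomain (E j)) (_ : ∀ j, IsIntegrallyClosed (E j)), Nonempty (A ≃+* Π j, E j) := by
  classical
  have hsupp : ∀ a ∈ A, supp a ∈ A := fun a ha => (hA _).2 fun f hf f' hf' =>
    map_supp_eq (hF f hf) (hF f' hf') ((hA a).1 ha f hf f' hf')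
  -- blocks
  let S : Set (Π i, D i) := {e | e ∈ A ∧ e * e = e}
  have hSval : ∀ e ∈ S, ∀ i, e i = 0 ∨ e i = 1 := fun e he i => by
    have h := congrFun he.2 i
    rcases mul_eq_zero.1 (show e i * (e i - 1) = 0 by rw [mul_sub, mul_one]; exact sub_eq_zero.2 h) with h' | h'
    · exact Or.inl h'
    · exact Or.inr (sub_eq_zero.1 h')
  let r : Setoid ι :=
    { r := fun i j => ∀ e ∈ S, (e i = 1 ↔ e j = 1)
      iseqv := ⟨fun _ _ _ => Iff.rfl, fun h e he => (h e he).symm,
        fun h h' e he => (h e he).trans (h' e he)⟩ }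
  have hblock : ∀ i, ∃ e ∈ S, ∀ j, e j = 1 ↔ r i j := by
    intro i
    have hfin : S.Finite := by
      refine Set.Finite.subset (Set.finite_range fun b : ι → Bool =>
        (fun i => if b i then (1 : D i) else 0 : Π i, D i)) fun e he => ?_
      refine ⟨fun i => decide (e i = 1), funext fun j => ?_⟩
      rcases hSval e he j with h | h <;> simp [h]
    refine ⟨∏ e ∈ hfin.toFinset, (if e i = 1 then e else 1 - e), ⟨?_, ?_⟩, fun j => ?_⟩
    · refine prod_mem fun e he => ?_
      have he' := (hfin.mem_toFinset.1 he).1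
      split_ifs
      · exact he'
      · exact sub_mem A.one_mem he'
    · rw [← Finset.prod_mul_distrib]
      refine Finset.prod_congr rfl fun e he => ?_
      have he' := (hfin.mem_toFinset.1 he).2
      split_ifs
      · exact he'
      · linear_combination he'
    · rw [Finset.prod_apply]
      constructor
      · intro h e he
        have hne : ∏ e ∈ hfin.toFinset, (if e i = 1 then e else 1 - e) j ≠ 0 := by rw [h]; exact one_ne_zero
        have hej := Finset.prod_ne_zero_iff.1 hne e (hfin.mem_toFinset.2 he)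
        constructor
        · intro hi
          rw [if_pos hi] at hej
          exact (hSval e he j).resolve_left hej
        · intro hj
          by_contra hi
          rw [if_neg hi] at hej
          exact hej (by rw [Pi.sub_apply, Pi.one_apply, hj, sub_self])
      · intro h
        refine Finset.prod_eq_one fun e he => ?_
        have hiff := h e (hfin.mem_toFinset.1 he)
        split_ifs with hi
        · exact hiff.1 hi
        · have : e j = 0 := (hSval e (hfin.mem_toFinset.1 he) j).resolve_right fun hj => hi (hiff.2 hj)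
          rw [Pi.sub_apply, Pi.one_apply, this, sub_zero]
  choose eb hebS heb using hblock
  have hsuppS : ∀ a ∈ A, supp a ∈ S := fun a ha => ⟨hsupp a ha, supp_mul_self a⟩
  have hzero : ∀ a ∈ A, ∀ i j, r i j → a i = 0 → a j = 0 := fun a ha i j hij h0 => by
    by_contra hj
    have := (hij _ (hsuppS a ha)).2 (by simp [supp, hj])
    simp [supp, h0] at this
  let κ := Quotient r
  let rep : κ → ι := Quotient.out
  have hrep : ∀ i, r (rep ⟦i⟧) i := fun i => Quotient.exact (Quotient.out_eq (⟦i⟧ : κ))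
  have hmem : ∀ j i, (eb (rep j) i = 1 ↔ (⟦i⟧ : κ) = j) := fun j i => by
    rw [heb]
    constructor
    · intro h
      rw [← Quotient.out_eq j]
      exact Quotient.sound (r.iseqv.symm h)
    · rintro rfl
      exact hrep i
  -- factors
  let π : (j : κ) → A →+* (Π i : {i // (⟦i⟧ : κ) = j}, D i.1) := fun j =>
    { toFun := fun a i => a.1 i.1
      map_one' := rfl
      map_mul' := fun _ _ => rfl
      map_zero' := rfl
      map_add' := fun _ _ => rfl }
  have hπ0 : ∀ j, ∀ x ∈ (π j).range, ∀ i, x i = 0 → x = 0 := by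
    rintro j _ ⟨a, rfl⟩ i hi
    exact funext fun l => hzero a.1 a.2 i.1 l.1 (Quotient.exact (i.2.trans l.2.symm)) hi
  have hne : ∀ j, Nonempty {i // (⟦i⟧ : κ) = j} := fun j => ⟨⟨rep j, Quotient.out_eq j⟩⟩
  refine ⟨κ, inferInstance, fun j => (π j).range, fun j => inferInstance,
    fun j => isDomain_of_zero _ (hπ0 j), fun j => isIntegrallyClosed_of_zero _ (hπ0 j) ?_, ?_⟩
  · rintro _ ⟨a', rfl⟩ _ ⟨b', rfl⟩ hb0 c hc
    let cc : Π i, D i := fun i => if h : (⟦i⟧ : κ) = j then c ⟨i, h⟩ else 0
    let e := eb (rep j)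
    have he1 : ∀ i, (⟦i⟧ : κ) = j → e i = 1 := fun i h => (hmem j i).2 h
    have he0 : ∀ i, (⟦i⟧ : κ) ≠ j → e i = 0 := fun i h =>
      (hSval e (hebS _) i).resolve_right fun h' => h ((hmem j i).1 h')
    let u : Π i, D i := b'.1 * e + (1 - e)
    have huA : u ∈ A := add_mem (A.mul_mem b'.2 (hebS _).1) (sub_mem A.one_mem (hebS _).1)
    have hu : u ∈ (Π i, D i)⁰ := mem_nonZeroDivisors_pi fun i => by
      by_cases h : (⟦i⟧ : κ) = j
      · simpa [u, he1 i h, π] using hb0 ⟨i, h⟩
      · simp [u, he0 i h]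
    have hcu : cc * u = a'.1 * e := funext fun i => by
      by_cases h : (⟦i⟧ : κ) = j
      · simpa [u, cc, he1 i h, h, π] using congrFun hc ⟨i, h⟩
      · simp [cc, he0 i h, h]
    have hccA : cc ∈ A := (hA _).2 fun f hf f' hf' => by
      have h1 : f (cc * u) = f' (cc * u) := by
        rw [hcu]; exact (hA _).1 (A.mul_mem a'.2 (hebS _).1) f hf f' hf'
      rw [map_mul, map_mul, (hA _).1 huA f hf f' hf'] at h1
      exact sub_eq_zero.1 (mem_nonZeroDivisors_iff_right.1 (hF f' hf' u hu) _
        (by rw [sub_mul, h1, sub_self]))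
    refine ⟨⟨cc, hccA⟩, funext fun i => ?_⟩
    simp [π, cc, i.2]
  · refine ⟨RingEquiv.ofBijective (RingHom.pi fun j => (π j).rangeRestrict) ⟨fun a a' h => ?_,
      fun y => ?_⟩⟩
    · refine Subtype.ext (funext fun i => ?_)
      exact congrArg (fun z : (π ⟦i⟧).range => z.1 ⟨i, rfl⟩) (congrFun h ⟦i⟧)
    · choose a ha using fun j => (y j).2
      refine ⟨∑ j, a j * ⟨eb (rep j), (hebS _).1⟩, funext fun j => Subtype.ext (funext fun i => ?_)⟩
      change (∑ j, a j * (⟨eb (rep j), (hebS _).1⟩ : A)).1 i.1 = (y j).1 i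
      rw [AddSubmonoidClass.coe_finsetSum, Finset.sum_apply, Finset.sum_eq_single j]
      · change (a j).1 i.1 * eb (rep j) i.1 = _
        rw [(hmem j i.1).2 i.2, mul_one]
        exact congrFun (ha j) i
      · intro l _ hl
        change (a l).1 i.1 * eb (rep l) i.1 = 0
        rw [(hSval _ (hebS _) i.1).resolve_right fun h =>
          hl (((hmem l i.1).1 h).symm.trans i.2), mul_zero]
      · simp

end Groth.Agent.InvFin
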