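import Groth.Agent.InvFin.CharPoly
import Mathlib.RingTheory.Adjoin.Tower
import Mathlib.RingTheory.FiniteType
import Mathlib.RingTheory.IntegralClosure.IsIntegral.Basic

/-!
# Invariants of a finite group scheme: finiteness
-/

noncomputable section

universe u v w

namespace Groth.Agent.InvFin

variable {k : Type u} [Field k] {H : Type v} [CommRing H] [HopfAlgebra k H] [Module.Finite k H]
variable {R : Type w} [CommRing R] [Algebra k R] [Algebra.FiniteType k R] [HopfRep.Comod k H R]
  [GLin.IsCoactAlg k H R]

theorem finite_invariants : Module.Finite (GLin.invariants k H R) R :=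
  have := isIntegral_invariants (k := k) (H := H) (R := R)
  have : Algebra.FiniteType (GLin.invariants k H R) R :=
    Algebra.FiniteType.of_restrictScalars_finiteType k _ R
  Algebra.IsIntegral.finite

theorem finiteType_invariants : Algebra.FiniteType k (GLin.invariants k H R) :=
  ⟨fg_of_fg_of_fg k (GLin.invariants k H R) R Algebra.FiniteType.out
    (finite_invariants (k := k) (H := H) (R := R)).fg_top Subtype.val_injective⟩

theorem isNoetherianRing_invariants : IsNoetherianRing (GLin.invariants k H R) :=
  have := finiteType_invariants (k := k) (H := H) (R := R)
  Algebra.FiniteType.isNoetherianRing k _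

end Groth.Agent.InvFin
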